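import Groth.Prelude.Def_SymProd
import Mathlib

/-! A fibre power of an affine open over an affine open is affine. -/

set_option autoImplicit false
set_option linter.style.haveILetI false
set_option backward.isDefEq.respectTransparency.types false

universe u

open AlgebraicGeometry CategoryTheory

namespace Groth.Agent.SymProdAff

theorem isAffineOpen_box {X S : Scheme.{u}} (f : X ⟶ S) (d : ℕ) (W : S.Opens) (hW : IsAffineOpen W)
    (V : X.Opens) (hV : IsAffineOpen V) (hle : V ≤ f ⁻¹ᵁ W) :
    IsAffineOpen ((CategoryTheory.Limits.WidePullback.base (fun _ : Fin d => f)) ⁻¹ᵁ W ⊓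
      ⨅ i : Fin d, CategoryTheory.Limits.WidePullback.π (fun _ : Fin d => f) i ⁻¹ᵁ V :
        (SymProd.fibPow f d).Opens) := by
  classical
  let π := fun i : Fin d => CategoryTheory.Limits.WidePullback.π (fun _ : Fin d => f) i
  let O : (SymProd.fibPow f d).Opens :=
    (CategoryTheory.Limits.WidePullback.base (fun _ : Fin d => f)) ⁻¹ᵁ W ⊓ ⨅ i : Fin d, π i ⁻¹ᵁ V
  have hmem : ∀ z, z ∈ O ↔
      (CategoryTheory.Limits.WidePullback.base (fun _ : Fin d => f)).base z ∈ W ∧ ∀ i, (π i).base z ∈ V := by
    intro z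
    show z ∈ ((_ : TopologicalSpace.Opens _) ⊓ _) ↔ _
    rw [← SetLike.mem_coe, TopologicalSpace.Opens.coe_inf, Set.mem_inter_iff, TopologicalSpace.Opens.coe_iInf,
      Set.mem_iInter]
    rfl
  let g' : (V : Scheme.{u}) ⟶ (W : Scheme.{u}) := f.resLE W V hle
  let Z := CategoryTheory.Limits.widePullback (W : Scheme.{u}) (fun _ : Fin d => (V : Scheme.{u})) (fun _ => g')
  haveI : IsAffine (W : Scheme.{u}) := hW
  haveI : IsAffine (V : Scheme.{u}) := hV
  haveI hZ : IsAffine Z := by
    haveI : ∀ o, IsAffine ((CategoryTheory.Limits.WidePullbackShape.wideCospan (W : Scheme.{u})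
        (fun _ : Fin d => (V : Scheme.{u})) (fun _ => g')).obj o) := fun o => by
      cases o
      · exact hW
      · exact hV
    exact Scheme.isAffine_of_isLimit _ (CategoryTheory.Limits.limit.isLimit _)
  let bZ := CategoryTheory.Limits.WidePullback.base (fun _ : Fin d => g')
  let πZ := fun i => CategoryTheory.Limits.WidePullback.π (fun _ : Fin d => g') i
  let Φ : Z ⟶ SymProd.fibPow f d :=
    CategoryTheory.Limits.WidePullback.lift (bZ ≫ W.ι) (fun i => πZ i ≫ V.ι) (fun i => by
      rw [Category.assoc, ← Scheme.Hom.resLE_comp_ι f hle, ← Category.assoc,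
        CategoryTheory.Limits.WidePullback.π_arrow])
  have hΦr : Set.range Φ ⊆ Set.range O.ι := by
    rw [O.range_ι]
    rintro _ ⟨z, rfl⟩
    refine (hmem _).2 ⟨?_, fun i => ?_⟩
    · rw [← Scheme.Hom.comp_apply, CategoryTheory.Limits.WidePullback.lift_base]
      exact (bZ.base z).2
    · rw [← Scheme.Hom.comp_apply, CategoryTheory.Limits.WidePullback.lift_π]
      exact ((πZ i).base z).2
  let Φ' : Z ⟶ (O : Scheme.{u}) := IsOpenImmersion.lift O.ι Φ hΦr
  have hb : Set.range (O.ι ≫ CategoryTheory.Limits.WidePullback.base (fun _ : Fin d => f)) ⊆ Set.range W.ι := by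
    rw [W.range_ι]; rintro _ ⟨z, rfl⟩; exact ((hmem _).1 z.2).1
  have hp : ∀ i, Set.range (O.ι ≫ π i) ⊆ Set.range V.ι := fun i => by
    rw [V.range_ι]; rintro _ ⟨z, rfl⟩; exact ((hmem _).1 z.2).2 i
  let Ψ : (O : Scheme.{u}) ⟶ Z :=
    CategoryTheory.Limits.WidePullback.lift (IsOpenImmersion.lift W.ι _ hb)
      (fun i => IsOpenImmersion.lift V.ι _ (hp i)) (fun i => by
        rw [← cancel_mono W.ι, Category.assoc, Scheme.Hom.resLE_comp_ι, IsOpenImmersion.lift_fac_assoc,
          IsOpenImmersion.lift_fac, Category.assoc, CategoryTheory.Limits.WidePullback.π_arrow])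
  have h1 : Ψ ≫ Φ = O.ι := by
    apply CategoryTheory.Limits.WidePullback.hom_ext
    · intro i
      rw [Category.assoc, CategoryTheory.Limits.WidePullback.lift_π,
        CategoryTheory.Limits.WidePullback.lift_π_assoc, IsOpenImmersion.lift_fac]
    · rw [Category.assoc, CategoryTheory.Limits.WidePullback.lift_base,
        CategoryTheory.Limits.WidePullback.lift_base_assoc, IsOpenImmersion.lift_fac]
  have h2 : Φ' ≫ Ψ = 𝟙 Z := by
    apply CategoryTheory.Limits.WidePullback.hom_ext
    · intro i
      rw [← cancel_mono V.ι]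
      simp only [Category.assoc, Category.id_comp]
      rw [CategoryTheory.Limits.WidePullback.lift_π_assoc, IsOpenImmersion.lift_fac,
        IsOpenImmersion.lift_fac_assoc, CategoryTheory.Limits.WidePullback.lift_π]
    · rw [← cancel_mono W.ι]
      simp only [Category.assoc, Category.id_comp]
      rw [CategoryTheory.Limits.WidePullback.lift_base_assoc, IsOpenImmersion.lift_fac,
        IsOpenImmersion.lift_fac_assoc, CategoryTheory.Limits.WidePullback.lift_base]
  have h3 : Ψ ≫ Φ' = 𝟙 _ := by
    rw [← cancel_mono O.ι, Category.assoc, IsOpenImmersion.lift_fac, Category.id_comp, h1]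
  haveI : IsIso Ψ := ⟨Φ', h3, h2⟩
  have hO : IsAffineOpen O := IsAffine.of_isIso Ψ
  exact hO

end Groth.Agent.SymProdAff
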